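import Cfsg.Agent.KZ.Loc.Kill

/-!
# KZ, box LOCAL: faithful actions on an abelian group of order `3 ^ d` (helper90)
-/

set_option autoImplicit false

namespace Cfsg.Agent.KZ.Loc

open Subgroup MulAction

/-- `E` has order prime to `3` and acts faithfully on the abelian group `V` of order `3 ^ d ≥ 27` -/
structure Sit (E V : Type*) [Group E] [Group V] [MulDistribMulAction E V] (d : ℕ) : Prop where
  comm : ∀ a b : V, a * b = b * a
  card : Nat.card V = 3 ^ d
  big : 3 ≤ d
  three : ¬ 3 ∣ Nat.card E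
  faith : ∀ e : E, (∀ v : V, e • v = v) → e = 1

variable {E V : Type*} [Group E] [Group V] [MulDistribMulAction E V] {d : ℕ}

/-- the fixed points of `t` -/
def fixS (V : Type*) [Group V] [MulDistribMulAction E V] (t : E) : Subgroup V where
  carrier := {u | t • u = u}
  one_mem' := smul_one t
  mul_mem' {a b} ha hb := by
    simp only [Set.mem_ofPred_eq] at ha hb ⊢
    rw [smul_mul', ha, hb]
  inv_mem' {a} ha := by
    simp only [Set.mem_ofPred_eq] at ha ⊢
    rw [smul_inv', ha]

theorem mem_fixS {t : E} {u : V} : u ∈ fixS V t ↔ t • u = u := Iff.rfl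

theorem eq_one_of_smul (g : E) {v : V} (e : g • v = 1) : v = 1 := by
  rw [← inv_smul_smul g v, e, smul_one]

namespace Sit

theorem ext (h : Sit E V d) {a b : E} (e : ∀ v : V, a • v = b • v) : a = b := by
  have := h.faith (b⁻¹ * a) fun v => by rw [mul_smul, e, inv_smul_smul]
  exact (inv_mul_eq_one.1 this).symm

theorem tr_mem (h : Sit E V d) {t : E} (ht : t * t = 1) (v : V) : v * t • v ∈ fixS V t := by
  rw [mem_fixS, smul_mul', ← mul_smul, ht, one_smul, h.comm]

theorem inv_of (h : Sit E V d) {t : E} (ht : t * t = 1) (hf : ∀ v : V, t • v = v → v = 1) (v : V) : t • v = v⁻¹ :=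
  eq_inv_of_mul_eq_one_right (hf _ (h.tr_mem ht v))

theorem cen_of (h : Sit E V d) {t : E} (hi : ∀ v : V, t • v = v⁻¹) : t ∈ center E :=
  mem_center_iff.2 fun g => h.ext fun v => by rw [mul_smul, mul_smul, hi, hi, smul_inv']

theorem uz [Finite E] (h : Sit E V d) (hs : ∀ (e : E) (v : V), e • v = v → v ≠ 1 → e = 1) (h2 : 2 ∣ Nat.card E) :
    ∃ z : E, Uz z := by
  have : Fact (Nat.Prime 2) := ⟨Nat.prime_two⟩
  obtain ⟨z, hz⟩ := exists_prime_orderOf_dvd_card' (G := E) 2 h2
  have h1 : z ≠ 1 := fun e => by rw [e, orderOf_one] at hz; omega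
  have h3 : z * z = 1 := by rw [← pow_two, ← hz, pow_orderOf_eq_one]
  have h4 : ∀ s : E, s * s = 1 → s ≠ 1 → ∀ v : V, s • v = v⁻¹ := fun s e1 e2 =>
    h.inv_of e1 fun v hv => by_contra fun e => e2 (hs s v hv e)
  refine ⟨z, h1, h3, h.cen_of (h4 z h3 h1), fun s e => ?_⟩
  by_cases e2 : s = 1
  · exact .inl e2
  · exact .inr (h.ext fun v => by rw [h4 s e e2, h4 z h3 h1])

theorem pos (h : Sit E V d) : 27 ≤ 3 ^ d := Nat.pow_le_pow_right (by norm_num : 0 < 3) h.big

theorem fin (h : Sit E V d) : Finite V := Nat.finite_of_card_ne_zero (by rw [h.card]; positivity)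

section two

variable [Finite E]

theorem st_eq (h2 : ∀ v : V, v ≠ 1 → Nat.card (stabilizer E v) ≤ 2) {v : V} (hv : v ≠ 1) {s t : E} (hs : s • v = v)
    (ht : t • v = v) (h1 : s ≠ 1) (h1' : t ≠ 1) : s = t := by
  by_contra e
  have := three_le_card (H := stabilizer E v) (a := 1) (b := ⟨s, hs⟩) (c := ⟨t, ht⟩)
    (fun e => h1 (congrArg Subtype.val e).symm) (fun e => h1' (congrArg Subtype.val e).symm)
    (fun e' => e (congrArg Subtype.val e'))
  have := h2 v hv
  omega

omit [Finite E] in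
theorem trans (h : Sit E V d) (h2 : ∀ v : V, v ≠ 1 → Nat.card (stabilizer E v) ≤ 2)
    (hn : Nat.card E + 2 = 2 * 3 ^ d) {v u : V} (hv : v ≠ 1) (hu : u ≠ 1) : ∃ g : E, g • v = u := by
  have := h.fin
  have h3 : orbit E v ⊆ {1}ᶜ := by
    rintro _ ⟨g, rfl⟩ e
    exact hv (eq_one_of_smul g e)
  have h4 : ({1}ᶜ : Set V).ncard + 1 = 3 ^ d := by
    rw [← h.card, ← Set.ncard_singleton (1 : V), add_comm, Set.ncard_add_ncard_compl]
  have h5 := (stabilizer E v).card_mul_index
  rw [index_stabilizer] at h5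
  have h6 := Nat.mul_le_mul_right (orbit E v).ncard (h2 v hv)
  have h7 := Set.eq_of_subset_of_ncard_le h3 (by omega)
  have h8 : u ∈ orbit E v := h7 ▸ hu
  exact h8

theorem fix_count (h : Sit E V d) (h2 : ∀ v : V, v ≠ 1 → Nat.card (stabilizer E v) ≤ 2)
    (hn : Nat.card E + 2 = 2 * 3 ^ d) {t : E} (h1 : t ≠ 1) {v : V} (hv : v ≠ 1) (ht : t • v = v) :
    cz t + 2 = 2 * Nat.card (fixS V t) := by
  have := h.fin
  have h3 : orbit (centralizer ({t} : Set E)) v = (fixS V t : Set V) \ {1} := by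
    ext u
    constructor
    · rintro ⟨g, rfl⟩
      refine ⟨?_, fun e => hv (eq_one_of_smul (g : E) e)⟩
      change t • (g : E) • v = (g : E) • v
      rw [← mul_smul, ← mem_cz.1 g.2, mul_smul, ht]
    · rintro ⟨hu, hu1⟩
      obtain ⟨g, rfl⟩ := h.trans h2 hn hv hu1
      have h4 : g * t * g⁻¹ = t := st_eq h2 hu1 (by rw [mul_smul, inv_smul_smul, mul_smul, ht]) hu
        (fun e => h1 (by simpa using e)) h1
      exact ⟨⟨g, mem_cz.2 (mul_inv_eq_iff_eq_mul.1 h4)⟩, rfl⟩
  have h4 : Nat.card (stabilizer (centralizer ({t} : Set E)) v) = 2 := by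
    refine le_antisymm ((Nat.card_le_card_of_injective
      (fun g : stabilizer (centralizer ({t} : Set E)) v => (⟨g.1.1, g.2⟩ : stabilizer E v))
      fun a b e => Subtype.ext (Subtype.ext (Subtype.mk.inj e))).trans (h2 v hv)) ?_
    exact Finite.one_lt_card_iff_nontrivial.2 ⟨⟨⟨t, mem_cz.2 rfl⟩, ht⟩, 1, fun e =>
      h1 (congrArg (fun a : stabilizer (centralizer ({t} : Set E)) v => a.1.1) e)⟩
  have h5 := (stabilizer (centralizer ({t} : Set E)) v).card_mul_index
  rw [index_stabilizer, h3, h4] at h5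
  have h6 := Set.ncard_sdiff_singleton_add_one (s := (fixS V t : Set V)) (a := 1) (one_mem (fixS V t))
  have h7 : Nat.card (fixS V t) = (fixS V t : Set V).ncard := Nat.card_coe_set_eq _
  rw [cz]
  omega

theorem inv_count (h : Sit E V d) (h2 : ∀ v : V, v ≠ 1 → Nat.card (stabilizer E v) ≤ 2)
    (hn : Nat.card E + 2 = 2 * 3 ^ d) {t : E} (h1 : t ≠ 1) (ht : t * t = 1) (hc : cz t ≠ Nat.card E) :
    cz t + 2 = 2 * Nat.card (fixS V t) := by
  by_cases e : ∀ v : V, t • v = v → v = 1
  · exact absurd (cz_central (h.cen_of (h.inv_of ht e))) hc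
  · simp only [not_forall] at e
    obtain ⟨v, e1, e2⟩ := e
    exact h.fix_count h2 hn h1 e2 e1

theorem k7_ii (h : Sit E V d) (h2 : ∀ v : V, v ≠ 1 → Nat.card (stabilizer E v) ≤ 2)
    (hn : Nat.card E + 2 = 2 * 3 ^ d) (hk : Nat.card (ConjClasses E) = 7) : False := by
  have := h.fin
  have hodd : 3 ^ d % 2 = 1 := Nat.odd_iff.1 (Odd.pow (by decide))
  have : Fact (Nat.Prime 2) := ⟨Nat.prime_two⟩
  obtain ⟨S⟩ : Nonempty (Sylow 2 E) := inferInstance
  obtain ⟨z, -, hz, hS⟩ := exists_cen S (by omega)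
  have z1 : z ≠ 1 := fun e => by rw [e, orderOf_one] at hz; omega
  have z2 : z * z = 1 := by rw [← pow_two, ← hz, pow_orderOf_eq_one]
  rcases k7_two (by omega) h.three hk h.big (by omega) with ⟨h3, h4⟩ | ⟨h3, h4⟩
  · have h5 : 2 ^ 5 ∣ cz z := (pow_dvd_sylow S (by rw [h3]; decide)).trans (card_dvd_of_le hS)
    have h6 := h4 z z1
    simp only [List.mem_cons, List.not_mem_nil, or_false] at h6
    have h7 := h.inv_count h2 hn z1 z2 (by omega)
    have h8 := card_subgroup_dvd_card (fixS V z)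
    have h9 : Nat.card (fixS V z) = 17 := by omega
    rw [h9, h.card, (by omega : 3 ^ d = 81)] at h8
    omega
  · have h5 : ∀ t : E, t ≠ 1 → t * t = 1 → cz t = 4 ∧ Nat.card (fixS V t) = 3 := fun t t1 t2 => by
      have h6 := h4 t t1
      have h7 := orderOf_dvd_cz (rfl : t * t = t * t)
      rw [orderOf_eq_prime (p := 2) (by rw [pow_two, t2]) t1] at h7
      simp only [List.mem_cons, List.not_mem_nil, or_false] at h6
      have h8 := h.inv_count h2 hn t1 t2 (by omega)
      omega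
    have h6 : ∀ t : E, t ≠ 1 → t * t = 1 → t * z = z * t := fun t t1 t2 => by
      have h7 : ¬ Function.Injective fun v : V =>
          ((⟨_, h.tr_mem t2 v⟩ : fixS V t), (⟨_, h.tr_mem z2 v⟩ : fixS V z)) := fun e => by
        have := Nat.card_le_card_of_injective _ e
        rw [Nat.card_prod, (h5 t t1 t2).2, (h5 z z1 z2).2, h.card] at this
        omega
      simp only [Function.Injective, not_forall] at h7
      obtain ⟨a, b, h8, h9⟩ := h7
      have h10 : ∀ s : E, a * s • a = b * s • b → s • (a⁻¹ * b) = (a⁻¹ * b)⁻¹ := fun s e => by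
        rw [smul_mul', smul_inv', mul_inv_rev, inv_inv]
        calc (s • a)⁻¹ * s • b = (s • a)⁻¹ * (b⁻¹ * (b * s • b)) := by group
          _ = (s • a)⁻¹ * (b⁻¹ * a * s • a) := by rw [← e, mul_assoc]
          _ = _ := by rw [h.comm (b⁻¹ * a), inv_mul_cancel_left]
      have h11 := h10 t (Subtype.mk.inj (Prod.mk.inj h8).1)
      have h12 := h10 z (Subtype.mk.inj (Prod.mk.inj h8).2)
      have h13 : a⁻¹ * b ≠ 1 := fun e => h9 (inv_mul_eq_one.1 e)
      have h14 : (t * z) • (a⁻¹ * b) = a⁻¹ * b := by rw [mul_smul, h12, smul_inv', h11, inv_inv]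
      have h15 : (t * z)⁻¹ = z * t := by
        rw [mul_inv_rev, inv_eq_of_mul_eq_one_right t2, inv_eq_of_mul_eq_one_right z2]
      by_cases e : t * z = 1
      · rw [← h15, e, inv_one]
      · rw [← h15]
        exact st_eq h2 h13 h14 (by rw [inv_smul_eq_iff, h14]) e (inv_ne_one.2 e)
    have h7 := Nat.card_le_card_of_injective (fun q : E ⧸ centralizer ({z} : Set E) =>
      (⟨q.out * z * q.out⁻¹, mem_cz.2 (h6 _ (fun e => z1 (by simpa using e)) (by
        rw [conj_mul, z2, mul_one, mul_inv_cancel]))⟩ : centralizer ({z} : Set E))) fun a b e => by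
          have h8 : a.out * z * a.out⁻¹ = b.out * z * b.out⁻¹ := Subtype.mk.inj e
          rw [← QuotientGroup.out_eq' a, ← QuotientGroup.out_eq' b, QuotientGroup.eq, mem_cz]
          calc a.out⁻¹ * b.out * z = a.out⁻¹ * (b.out * z * b.out⁻¹) * b.out := by group
            _ = a.out⁻¹ * (a.out * z * a.out⁻¹) * b.out := by rw [h8]
            _ = _ := by group
    have h8 := (centralizer ({z} : Set E)).card_mul_index
    have h9 := (h5 z z1 z2).1
    rw [cz] at h9
    rw [← index_eq_card, h9] at h7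
    rw [h9] at h8
    omega

end two

end Sit

end Cfsg.Agent.KZ.Loc
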