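import Cfsg.Agent.KZ.Loc.Act

/-!
# KZ, box LOCAL: the count (helper90)
-/

set_option autoImplicit false

namespace Cfsg.Agent.KZ.Loc

open Subgroup MulAction

theorem k_congr {H K : Type*} [Group H] [Group K] (e : H ≃* K) : Nat.card (ConjClasses H) = Nat.card (ConjClasses K) :=
  Nat.card_congr
    { toFun := ConjClasses.map e.toMonoidHom
      invFun := ConjClasses.map e.symm.toMonoidHom
      left_inv := fun c => by
        obtain ⟨g, rfl⟩ := ConjClasses.mk_surjective c
        exact congrArg ConjClasses.mk (e.symm_apply_apply g)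
      right_inv := fun c => by
        obtain ⟨g, rfl⟩ := ConjClasses.mk_surjective c
        exact congrArg ConjClasses.mk (e.apply_symm_apply g) }

/-- class number `k` of a stabiliser and length `w` of the orbit -/
def Good (n k w : ℕ) : Prop :=
  (k = 1 ∧ w = n) ∨ (k = 2 ∧ 2 * w = n) ∨ (k = 4 ∧ (4 * w = n ∨ 10 * w = n)) ∨ (5 ≤ k ∧ 5 * w ≤ n)

/-- the sums -/
def Tot (n b N : ℕ) : Prop :=
  (b = 0 → N = 0) ∧ (b = 1 → N = n) ∧ (b = 2 → N = 2 * n ∨ 2 * N = n) ∧ (b = 3 → N = 3 * n ∨ 2 * N = 3 * n) ∧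
    (b = 4 → N = 4 * n ∨ 2 * N = 5 * n ∨ N = n ∨ 4 * N = n ∨ 10 * N = n) ∧
    (b = 5 → N = 5 * n ∨ 2 * N = 7 * n ∨ N = 2 * n ∨ 4 * N = 5 * n ∨ 10 * N = 11 * n ∨ 5 * N ≤ n)

theorem tot_step {n k w b N : ℕ} (h : Good n k w) (h' : Tot n b N) : Tot n (k + b) (w + N) := by
  obtain ⟨h0, h1, h2, h3, h4, h5⟩ := h'
  refine ⟨fun e => ?_, fun e => ?_, fun e => ?_, fun e => ?_, fun e => ?_, fun e => ?_⟩ <;>
    rcases h with ⟨h, h'⟩ | ⟨h, h'⟩ | ⟨h, h'⟩ | ⟨h, h'⟩ <;> omega

theorem tot {ι : Type*} (n : ℕ) (k w : ι → ℕ) (I : Finset ι) (h : ∀ i ∈ I, Good n (k i) (w i)) :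
    Tot n (∑ i ∈ I, k i) (∑ i ∈ I, w i) := by
  classical
  induction I using Finset.induction_on with
  | empty => simp [Tot]
  | insert a s ha ih =>
    rw [Finset.sum_insert ha, Finset.sum_insert ha]
    exact tot_step (h a (Finset.mem_insert_self _ _)) (ih fun i hi => h i (Finset.mem_insert_of_mem hi))

theorem good {E : Type*} [Group E] [Finite E] (h3 : ¬ 3 ∣ Nat.card E) (H : Subgroup E) :
    Good (Nat.card E) (Nat.card (ConjClasses H)) (Nat.card E / Nat.card H) := by
  have h1 : ¬ 3 ∣ Nat.card H := fun e => h3 (e.trans (card_subgroup_dvd_card H))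
  obtain ⟨w, hw⟩ := card_subgroup_dvd_card H
  have h2 : Nat.card E / Nat.card H = w := by rw [hw, Nat.mul_div_cancel_left _ Nat.card_pos]
  have h4 := k_three h1
  have h5 := k_pos (E := H)
  have h6 : Nat.card (ConjClasses H) = 1 ∨ Nat.card (ConjClasses H) = 2 ∨ Nat.card (ConjClasses H) = 4 ∨
      5 ≤ Nat.card (ConjClasses H) := by omega
  rw [h2]
  rcases h6 with h6 | h6 | h6 | h6
  · exact .inl ⟨h6, by rw [hw, k_one h6, one_mul]⟩
  · exact .inr (.inl ⟨h6, by rw [hw, k_two h1 h6]⟩)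
  · exact .inr (.inr (.inl ⟨h6, (k_four h1 h6).imp (fun e => by rw [hw, e]) fun e => by rw [hw, e]⟩))
  · exact .inr (.inr (.inr ⟨h6, by rw [hw]; exact Nat.mul_le_mul_right _ (h6.trans k_le)⟩))

theorem pow_cases {d : ℕ} (h : 3 ≤ d) (h' : 3 ^ d ≤ 1000) : 3 ^ d = 27 ∨ 3 ^ d = 81 ∨ 3 ^ d = 243 ∨ 3 ^ d = 729 := by
  have h1 : d < 7 := by
    by_contra h2
    have := Nat.pow_le_pow_right (by norm_num : 0 < 3) (not_lt.1 h2)
    omega
  interval_cases d <;> decide

variable {E V : Type*} [Group E] [Group V] [MulDistribMulAction E V] {d : ℕ}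

theorem Sit.core [Finite E] (h : Sit E V d) [Fintype (orbitRel.Quotient E V)]
    (h3 : 3 ∣ ∑ ω : orbitRel.Quotient E V, Nat.card (ConjClasses (stabilizer E ω.out))) :
    10 ≤ ∑ ω : orbitRel.Quotient E V, Nat.card (ConjClasses (stabilizer E ω.out)) := by
  classical
  have := h.fin
  have := Fintype.ofFinite E
  have := Fintype.ofFinite V
  let ω₀ : orbitRel.Quotient E V := Quotient.mk'' 1
  have hω : ∀ v : V, (Quotient.mk'' v : orbitRel.Quotient E V) = ω₀ → v = 1 := fun v e => by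
    obtain ⟨g, hg⟩ := orbitRel_apply.1 (Quotient.exact' e)
    rw [← hg]
    exact smul_one g
  have h0 : stabilizer E ω₀.out = ⊤ := by
    rw [hω ω₀.out (Quotient.out_eq' _)]
    exact eq_top_iff.2 fun g _ => smul_one g
  have h1 := card_eq_sum_card_group_div_card_stabilizer E V
  simp only [← Nat.card_eq_fintype_card] at h1
  rw [← Finset.add_sum_erase _ _ (Finset.mem_univ ω₀), h0, card_top, Nat.div_self Nat.card_pos, h.card] at h1
  rw [← Finset.add_sum_erase _ _ (Finset.mem_univ ω₀), h0, k_congr (topEquiv : (⊤ : Subgroup E) ≃* E)] at h3 ⊢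
  have h2 := tot (Nat.card E) (fun ω : orbitRel.Quotient E V => Nat.card (ConjClasses (stabilizer E ω.out)))
    (fun ω => Nat.card E / Nat.card (stabilizer E ω.out)) (Finset.univ.erase ω₀) fun ω _ => good h.three _
  have h4 : ∀ ω ∈ Finset.univ.erase ω₀, Nat.card E / Nat.card (stabilizer E ω.out) ≤
      Nat.card (ConjClasses (stabilizer E ω.out)) * Nat.card E := fun ω _ =>
    (Nat.div_le_self _ _).trans (Nat.le_mul_of_pos_left _ k_pos)
  have h5 := Finset.sum_le_sum h4
  have h6 := Finset.sum_eq_sum_iff_of_le h4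
  rw [← Finset.sum_mul] at h5 h6
  have h7 : ∀ v : V, v ≠ 1 → ∃ ω ∈ Finset.univ.erase ω₀, Nat.card (stabilizer E v) = Nat.card (stabilizer E ω.out) :=
    fun v hv => ⟨Quotient.mk'' v, Finset.mem_erase.2 ⟨fun e => hv (hω v e), Finset.mem_univ _⟩,
      Nat.card_congr (stabilizerEquivStabilizerOfOrbitRel (Quotient.exact' (Quotient.out_eq' _).symm)).toEquiv⟩
  have h8 : ∀ ω ∈ Finset.univ.erase ω₀, Nat.card (ConjClasses (stabilizer E ω.out)) ≤
      ∑ ω ∈ Finset.univ.erase ω₀, Nat.card (ConjClasses (stabilizer E ω.out)) := fun ω hω =>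
    Finset.single_le_sum (f := fun ω : orbitRel.Quotient E V => Nat.card (ConjClasses (stabilizer E ω.out)))
      (fun _ _ => Nat.zero_le _) hω
  generalize ∑ ω ∈ Finset.univ.erase ω₀, Nat.card (ConjClasses (stabilizer E ω.out)) = b at h2 h3 h5 h6 h8 ⊢
  generalize ∑ ω ∈ Finset.univ.erase ω₀, Nat.card E / Nat.card (stabilizer E ω.out) = N at h1 h2 h5 h6
  have semi : N = b * Nat.card E → ∀ (e : E) (v : V), e • v = v → v ≠ 1 → e = 1 := fun e g v hg hv => by
    obtain ⟨ω, h9, h10⟩ := h7 v hv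
    have h11 := h6.1 e ω h9
    have h12 : Nat.card E ≤ Nat.card E / Nat.card (stabilizer E ω.out) := h11 ▸ Nat.le_mul_of_pos_left _ k_pos
    have h13 : Nat.card (stabilizer E v) ≤ 1 := by
      by_contra h14
      have := Nat.div_lt_self (Nat.card_pos (α := E)) (h10 ▸ not_le.1 h14)
      omega
    have h14 : Subsingleton (stabilizer E v) := Finite.card_le_one_iff_subsingleton.1 h13
    exact congrArg Subtype.val (Subsingleton.elim (⟨g, hg⟩ : stabilizer E v) 1)
  by_contra hc
  have h9 := k_three h.three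
  have h10 := k_pos (E := E)
  have h11 := h.pos
  have hodd : 3 ^ d % 2 = 1 := Nat.odd_iff.1 (Odd.pow (by decide))
  obtain ⟨-, t1, t2, -, t4, t5⟩ := h2
  have h12 : Nat.card (ConjClasses E) = 1 ∨ Nat.card (ConjClasses E) = 2 ∨ Nat.card (ConjClasses E) = 4 ∨
      Nat.card (ConjClasses E) = 5 ∨ Nat.card (ConjClasses E) = 7 ∨ Nat.card (ConjClasses E) = 8 := by omega
  have hb : b ≠ 0 := fun e => by rw [e, zero_mul] at h5; omega
  rcases h12 with hk | hk | hk | hk | hk | hk
  · rw [k_one hk] at h5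
    omega
  · rw [k_two h.three hk] at h5
    omega
  · rcases k_four h.three hk with e | e <;> rw [e] at h5 t2 t5
    · omega
    · have := pow_cases h.big (by omega)
      omega
  · have h13 := k_five h.three hk
    simp only [List.mem_cons, List.not_mem_nil, or_false] at h13
    have h14 : b = 1 ∨ b = 4 := by omega
    have h15 := pow_cases h.big (by omega)
    have h16 : b = 4 ∧ Nat.card E = 20 ∧ N = 80 := by omega
    obtain ⟨z, hz⟩ := h.uz (semi (by rw [h16.1, h16.2.1, h16.2.2])) (by omega)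
    exact hz.k5 hk h16.2.1
  · obtain rfl : b = 2 := by omega
    rcases t2 rfl with e | e
    · by_cases e2 : 2 ∣ Nat.card E
      · obtain ⟨z, hz⟩ := h.uz (semi e) e2
        exact hz.k7 h.three hk h.big (by omega)
      · exact k7_odd e2 h.three hk h.big (by omega)
    · refine h.k7_ii (fun v hv => ?_) (by omega) hk
      obtain ⟨ω, h13, h14⟩ := h7 v hv
      have h15 := h8 ω h13
      have h16 := k_pos (E := stabilizer E ω.out)
      have h17 : ¬ 3 ∣ Nat.card (stabilizer E ω.out) := fun e => h.three (e.trans (card_subgroup_dvd_card _))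
      rw [h14]
      by_cases e2 : Nat.card (ConjClasses (stabilizer E ω.out)) = 1
      · rw [k_one e2]; omega
      · rw [k_two h17 (by omega)]
  · obtain rfl : b = 1 := by omega
    have e := t1 rfl
    obtain ⟨z, hz⟩ := h.uz (semi (by omega)) (by omega)
    exact hz.k8 h.three hk h.big (by omega)

end Cfsg.Agent.KZ.Loc
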