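import Mathlib

/-!
# KZ, box LOCAL: a verified enumeration of class equations (helper90)

`go ok fin m k a b lo acc = true` says that `fin` holds for every sorted list of `k` numbers `c ≥ lo` with `ok c` and every
`n` with `a / b = ∑ 1 / c + m / n`.
-/

set_option autoImplicit false

namespace Cfsg.Agent.KZ.Loc

/-- the enumeration -/
def go (ok : ℕ → Bool) (fin : List ℕ → ℕ → Bool) (m : ℕ) : ℕ → ℕ → ℕ → ℕ → List ℕ → Bool
  | 0, a, b, _, acc => !((m * b) % a == 0) || fin acc.reverse (m * b / a)
  | k + 1, a, b, lo, acc =>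
    (List.range' (max lo (b / a + 1)) ((k + 1 + m) * b / a + 1 - max lo (b / a + 1))).all fun c =>
      !(ok c) || go ok fin m k (a * c - b) (b * c) c (c :: acc)

theorem go_realised : True := by have := @go.eq_def; trivial

theorem sum_le (n q : ℕ) : ∀ l : List ℕ, (∀ c ∈ l, n / c ≤ q) → (l.map (n / ·)).sum ≤ l.length * q
  | [], _ => by simp
  | c :: l, h => by
    have h1 := sum_le n q l fun x hx => h x (List.mem_cons_of_mem _ hx)
    have h2 := h c List.mem_cons_self
    simp only [List.map_cons, List.sum_cons, List.length_cons]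
    nlinarith

theorem go_sound (ok : ℕ → Bool) (fin : List ℕ → ℕ → Bool) {m n : ℕ} (hm : 0 < m) (hn : 0 < n) :
    ∀ (l : List ℕ) (a b lo : ℕ) (acc : List ℕ), 0 < b → l.Pairwise (· ≤ ·) → (∀ c ∈ l, lo ≤ c ∧ ok c = true ∧ c ∣ n) →
      a * n = b * ((l.map (n / ·)).sum + m) → go ok fin m l.length a b lo acc = true → fin (acc.reverse ++ l) n = true
  | [], a, b, lo, acc, hb, _, _, he, hg => by
    simp only [List.map_nil, List.sum_nil, zero_add] at he
    have ha : 0 < a := Nat.pos_of_ne_zero fun h => by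
      rw [h, zero_mul] at he
      exact (Nat.mul_pos hb hm).ne he
    have h1 : m * b = a * n := by rw [he, mul_comm]
    simp only [List.length_nil, go, h1, Nat.mul_mod_right, beq_self_eq_true, Bool.not_true, Bool.false_or,
      Nat.mul_div_cancel_left _ ha] at hg
    simpa using hg
  | c :: l, a, b, lo, acc, hb, hs, hc, he, hg => by
    obtain ⟨h1, h2, q, h3⟩ := hc c List.mem_cons_self
    have hc0 : 0 < c := Nat.pos_of_ne_zero fun h => by
      rw [h, zero_mul] at h3
      omega
    have hq0 : 0 < q := Nat.pos_of_ne_zero fun h => by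
      rw [h, mul_zero] at h3
      omega
    have hq : n / c = q := by rw [h3, Nat.mul_div_cancel_left _ hc0]
    rw [List.pairwise_cons] at hs
    have h4 : (l.map (n / ·)).sum ≤ l.length * q :=
      sum_le n q l fun x hx => hq ▸ Nat.div_le_div_left (hs.1 x hx) hc0
    simp only [List.map_cons, List.sum_cons, hq] at he
    obtain ⟨s, hsum⟩ : ∃ s, (l.map (n / ·)).sum = s := ⟨_, rfl⟩
    rw [hsum] at he h4
    have ha : 0 < a := Nat.pos_of_ne_zero fun h => by
      rw [h, zero_mul] at he
      exact (Nat.mul_pos hb (by omega : 0 < q + s + m)).ne he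
    have h5 : b < a * c := by
      by_contra h
      have h6 : a * c * q ≤ b * q := Nat.mul_le_mul_right _ (not_lt.1 h)
      have h7 : a * c * q = b * q + b * (s + m) := by rw [mul_assoc, ← h3, he]; ring
      have h8 : 0 < b * (s + m) := Nat.mul_pos hb (by omega)
      omega
    have h6 : c * a ≤ (l.length + 1 + m) * b := by
      have h7 : c * a * q ≤ (l.length + 1 + m) * b * q := by
        have h8 : c * a * q = b * (q + s + m) := by rw [← he, h3]; ring
        have h9 : m ≤ m * q := Nat.le_mul_of_pos_right _ hq0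
        rw [h8]
        calc b * (q + s + m) ≤ b * (q + l.length * q + m * q) := Nat.mul_le_mul_left _ (by omega)
          _ = (l.length + 1 + m) * b * q := by ring
      exact Nat.le_of_mul_le_mul_right h7 hq0
    have h7 : c ≤ (l.length + 1 + m) * b / a := (Nat.le_div_iff_mul_le ha).2 h6
    have h8 : b / a + 1 ≤ c := (Nat.div_lt_iff_lt_mul ha).2 (by rw [mul_comm]; exact h5)
    simp only [List.length_cons, go, List.all_eq_true] at hg
    have h9 := hg c (by
      rw [List.mem_range'_1]
      constructor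
      · exact max_le h1 h8
      · have := max_le h1 h8
        omega)
    rw [h2, Bool.not_true, Bool.false_or] at h9
    have h10 := go_sound ok fin hm hn l (a * c - b) (b * c) c (c :: acc) (Nat.mul_pos hb hc0) hs.2
      (fun x hx => ⟨hs.1 x hx, (hc x (List.mem_cons_of_mem _ hx)).2⟩) (by
        rw [hsum]
        have h11 : a * c * n = b * n + b * c * (s + m) := by
          calc a * c * n = c * (a * n) := by ring
            _ = c * (b * (q + s + m)) := by rw [he]
            _ = b * (c * q) + b * c * (s + m) := by ring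
            _ = _ := by rw [← h3]
        rw [Nat.sub_mul, h11, Nat.add_sub_cancel_left]) h9
    simpa using h10

/-- the form which is used: `∑ n / c + m = n` -/
theorem egy (ok : ℕ → Bool) (fin : List ℕ → ℕ → Bool) {m n k : ℕ} (hm : 0 < m) (hn : 0 < n) {l : List ℕ}
    (hs : l.Pairwise (· ≤ ·)) (hl : l.length = k) (hc : ∀ c ∈ l, ok c = true ∧ c ∣ n)
    (he : (l.map (n / ·)).sum + m = n) (hg : go ok fin m k 1 1 0 [] = true) : fin l n = true := by
  subst hl
  simpa using go_sound ok fin hm hn l 1 1 0 [] one_pos hs (fun c h => ⟨Nat.zero_le _, hc c h⟩) (by omega) hg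

/-- all entries divide `n` -/
def dv (l : List ℕ) (n : ℕ) : Bool := l.all fun c => n % c == 0

theorem dv_of {l : List ℕ} {n : ℕ} (h : ∀ c ∈ l, c ∣ n) : dv l n = true := by
  simp only [dv, List.all_eq_true, beq_iff_eq]
  exact fun c hc => Nat.mod_eq_zero_of_dvd (h c hc)

/-- the powers of `3` between `27` and `10 ^ 7` -/
def isP (x : ℕ) : Bool :=
  decide (x ∈ [27, 81, 243, 729, 2187, 6561, 19683, 59049, 177147, 531441, 1594323, 4782969])

theorem isP_of {d : ℕ} (h : 3 ≤ d) (h' : 3 ^ d < 10 ^ 7) : isP (3 ^ d) = true := by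
  have h1 : d < 15 := by
    by_contra h2
    have := Nat.pow_le_pow_right (by norm_num : 0 < 3) (not_lt.1 h2)
    omega
  interval_cases d <;> decide

/-- prime to `3` -/
def ok3 (c : ℕ) : Bool := c % 3 != 0

/-- prime to `3`, at least `4` -/
def ok4 (c : ℕ) : Bool := c % 3 != 0 && decide (4 ≤ c)

/-- prime to `6` -/
def ok5 (c : ℕ) : Bool := c % 3 != 0 && c % 2 != 0

/-- prime to `3`, even, at least `4` -/
def okE (c : ℕ) : Bool := c % 3 != 0 && c % 2 == 0 && decide (4 ≤ c)

theorem e2 : go ok3 (fun _ n => n == 2) 1 1 1 1 0 [] = true := by decide +kernel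

theorem e4 : go ok3 (fun l n => !(dv l n) || n % 3 == 0 || n == 4 || n == 10 || (decide (2 ∈ l) && n % 4 == 0)) 1 3 1 1 0 [] = true := by
  decide +kernel

theorem e5 : go ok3 (fun l n => !(dv l n) || n % 3 == 0 ||
    decide (n ∈ [220, 100, 40, 140, 28, 16, 20, 110, 70, 10, 14, 8, 5])) 1 4 1 1 0 [] = true := by
  decide +kernel

theorem e5E : go okE (fun _ n => n != 20) 2 3 1 1 0 [] = true := by decide +kernel

theorem e7E : go okE (fun l n => !(dv l n) || (decide (n < 10 ^ 6) &&
    (!(isP (2 * n + 1)) || (n == 40 && l == [4, 4, 4, 10, 10])))) 2 5 1 1 0 [] = true := by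
  decide +kernel

theorem e7O : go ok5 (fun l n => !(dv l n) || (decide (n < 10 ^ 6) && !(isP (2 * n + 1)))) 1 6 1 1 0 [] = true := by
  decide +kernel

theorem e7T : go ok4 (fun l n => !(dv l n) || (decide (n < 10 ^ 6) &&
    (!(isP (n / 2 + 1)) || n % 2 == 1 || (n == 160 && (l == [4, 4, 4, 5, 32, 80] || l == [4, 4, 5, 5, 16, 32])) ||
      (n == 52 && l == [4, 4, 4, 13, 13, 13])))) 1 6 1 1 0 [] = true := by
  decide +kernel

theorem e8E : go okE (fun l n => !(dv l n) || (decide (n < 10 ^ 6) &&
    (!(isP (n + 1)) || (n == 80 && (l == [4, 4, 4, 8, 20, 20] || l == [4, 4, 4, 10, 10, 40] || l == [4, 4, 4, 10, 16, 16] ||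
      l == [4, 4, 8, 8, 8, 10]))))) 2 6 1 1 0 [] = true := by
  decide +kernel

end Cfsg.Agent.KZ.Loc
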