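import Cfsg.Agent.KZ.Loc.Pat

/-!
# KZ, box LOCAL: groups with a unique involution and few classes (helper90)
-/

set_option autoImplicit false

namespace Cfsg.Agent.KZ.Loc

open Subgroup

variable {E : Type*} [Group E]

/-- `z` is the only involution -/
structure Uz (z : E) : Prop where
  ne : z ≠ 1
  sq : z * z = 1
  cen : z ∈ center E
  uniq : ∀ s : E, s * s = 1 → s = 1 ∨ s = z

theorem pow_five {x : E} (hx : orderOf x = 5) : x ^ 5 = 1 := hx ▸ pow_orderOf_eq_one x

theorem pow_ne {x : E} (hx : orderOf x = 5) {j : ℕ} (hj : ¬ 5 ∣ j) : x ^ j ≠ 1 := fun h =>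
  hj (hx ▸ orderOf_dvd_of_pow_eq_one h)

theorem order_five {x : E} (h : x ^ 5 = 1) (h1 : x ≠ 1) : orderOf x = 5 :=
  haveI : Fact (Nat.Prime 5) := ⟨Nat.prime_five⟩
  orderOf_eq_prime h h1

theorem conj_iter {g x : E} (h : g * x * g⁻¹ = x ^ 2) : ∀ j : ℕ, g ^ j * x * (g ^ j)⁻¹ = x ^ 2 ^ j
  | 0 => by simp
  | j + 1 => by
    calc g ^ (j + 1) * x * (g ^ (j + 1))⁻¹ = g ^ j * (g * x * g⁻¹) * (g ^ j)⁻¹ := by rw [pow_succ]; group
      _ = (g ^ j * x * (g ^ j)⁻¹) ^ 2 := by rw [h, conj_pow]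
      _ = x ^ 2 ^ (j + 1) := by rw [conj_iter h j, ← pow_mul, ← pow_succ]

namespace Uz

variable [DecidableEq E] {z : E}

theorem not_mem {g : E} : g ∉ ({1, z} : Finset E) ↔ g ≠ 1 ∧ g ≠ z := by simp

omit [DecidableEq E] in
theorem comm (h : Uz z) (g : E) : z * g = g * z := (mem_center_iff.1 h.cen g).symm

omit [DecidableEq E] in
theorem mul_pow' (h : Uz z) (g : E) (j : ℕ) : (z * g) ^ j = z ^ j * g ^ j := Commute.mul_pow (h.comm g) j

omit [DecidableEq E] in
theorem pow_four (h : Uz z) : z ^ 4 = 1 := by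
  calc z ^ 4 = (z * z) * (z * z) := by simp only [pow_succ, pow_zero, one_mul, mul_assoc]
    _ = 1 := by rw [h.sq, one_mul]

omit [DecidableEq E] in
theorem zx_five (h : Uz z) {x : E} (hx : orderOf x = 5) : (z * x) ^ 5 ≠ 1 := by
  rw [h.mul_pow', pow_five hx, mul_one, pow_succ, h.pow_four, one_mul]
  exact h.ne

omit [DecidableEq E] in
theorem zx_four (h : Uz z) {x : E} (hx : orderOf x = 5) : (z * x) ^ 4 ≠ 1 := by
  rw [h.mul_pow', h.pow_four, one_mul]
  exact pow_ne hx (by decide)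

theorem nm_of_four (h : Uz z) {g : E} (hg : g ^ 4 ≠ 1) : g ∉ ({1, z} : Finset E) :=
  not_mem.2 ⟨fun e => hg (by rw [e, one_pow]), fun e => hg (by rw [e, h.pow_four])⟩

theorem nm_x (h : Uz z) {x : E} (hx : orderOf x = 5) : x ∉ ({1, z} : Finset E) := h.nm_of_four (pow_ne hx (by decide))

theorem nm_zx (h : Uz z) {x : E} (hx : orderOf x = 5) : z * x ∉ ({1, z} : Finset E) := h.nm_of_four (h.zx_four hx)

omit [DecidableEq E] in
theorem nc (h : Uz z) {x y : E} (hx : orderOf x = 5) (hy : orderOf y = 5) : ¬ IsConj y (z * x) := fun c =>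
  h.zx_five hx (pow_of_isConj c (pow_five hy))

theorem pat [Finite E] (h : Uz z) (h3 : ¬ 3 ∣ Nat.card E) :
    ∃ l : List ℕ, l.Pairwise (· ≤ ·) ∧ l.length + 2 = Nat.card (ConjClasses E) ∧
      (l.map (Nat.card E / ·)).sum + 2 = Nat.card E ∧ Pat ({1, z} : Finset E) l ∧
      ∀ c ∈ l, okE c = true ∧ c ∣ Nat.card E := by
  obtain ⟨l, h1, h2, h4, h5⟩ := exists_pat ({1, z} : Finset E) fun x hx => by
    rcases Finset.mem_insert.1 hx with rfl | hx
    · exact one_mem _
    · rw [Finset.mem_singleton.1 hx]; exact h.cen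
  rw [Finset.card_pair h.ne.symm] at h2 h4
  refine ⟨l, h1, h2, h4, h5, fun c hc => ?_⟩
  obtain ⟨g, hg, rfl⟩ := h5.ex c hc
  refine ⟨?_, cz_dvd g⟩
  have : Fact (Nat.Prime 2) := ⟨Nat.prime_two⟩
  have h6 : 2 ∣ cz g := by
    have := orderOf_dvd_cz (h.comm g)
    rwa [orderOf_eq_prime (p := 2) (by rw [pow_two, h.sq]) h.ne] at this
  have h7 : 3 ≤ cz g := three_le_card (H := centralizer ({g} : Set E)) (a := 1) (b := ⟨g, mem_cz.2 rfl⟩)
    (c := ⟨z, mem_cz.2 (h.comm g)⟩) (fun e => (not_mem.1 hg).1 (congrArg Subtype.val e).symm)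
    (fun e => h.ne (congrArg Subtype.val e).symm) (fun e => (not_mem.1 hg).2 (congrArg Subtype.val e))
  have h8 := not_three_cz (g := g) h3
  simp only [okE, Bool.and_eq_true, bne_iff_ne, beq_iff_eq, decide_eq_true_eq]
  omega

theorem k5 [Finite E] (h : Uz z) (hk : Nat.card (ConjClasses E) = 5) : Nat.card E ≠ 20 := fun e => by
  obtain ⟨l, h1, h2, h4, -, h6⟩ := h.pat (by rw [e]; decide)
  have := egy _ _ two_pos Nat.card_pos h1 (by omega) h6 h4 e5E
  simp [e] at this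

omit [DecidableEq E] in
theorem five_cz {x : E} (hx : orderOf x = 5) {y : E} (c : x * y = y * x) : (cz y % 5 == 0) = true := by
  have := orderOf_dvd_cz c
  rw [hx] at this
  simpa using Nat.mod_eq_zero_of_dvd this

/-- two classes with centralizers of order divisible by `5` -/
theorem two5 (h : Uz z) {l : List ℕ} (hp : Pat ({1, z} : Finset E) l) {x : E} (hx : orderOf x = 5) (p : ℕ → Bool)
    (e : p (cz x) = true) : 2 ≤ l.countP p :=
  hp.two p x (z * x) (h.nm_x hx) (h.nm_zx hx) (h.nc hx hx) e (by rwa [cz_mul h.cen])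

theorem p1 [Finite E] (h : Uz z) (hp : Pat ({1, z} : Finset E) [4, 4, 4, 8, 20, 20]) {x : E} (hx : orderOf x = 5) : False := by
  have h1 : cz x = 20 := by
    have h2 := hp.mem x (h.nm_x hx)
    have h3 := five_cz hx rfl
    simp only [List.mem_cons, List.not_mem_nil, or_false, beq_iff_eq] at h2 h3
    omega
  have : Fact (Nat.Prime 2) := ⟨Nat.prime_two⟩
  obtain ⟨K, hK⟩ := Sylow.exists_subgroup_card_pow_prime (G := centralizer ({x} : Set E)) 2 (n := 2)
    (by rw [cz] at h1; rw [h1]; decide)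
  obtain ⟨y, hy⟩ : ∃ y : K, y.1.1 ∉ ({1, z} : Finset E) := by
    by_contra hc
    simp only [not_exists, not_not] at hc
    have h2 := Nat.card_le_card_of_injective (fun y : K => (⟨y.1.1, hc y⟩ : ({1, z} : Finset E)))
      fun a b e => Subtype.ext (Subtype.ext (Subtype.mk.inj e))
    rw [hK, Nat.card_eq_fintype_card, Fintype.card_coe, Finset.card_pair h.ne.symm] at h2
    omega
  have h2 : y.1.1 ^ 4 = 1 := by
    have := pow_card_eq_one' (x := y)
    rw [hK] at this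
    exact congrArg (fun a : K => a.1.1) this
  have h3 := hp.three (fun c => c % 5 == 0) y.1.1 x (z * x) hy (h.nm_x hx) (h.nm_zx hx)
    (fun c => pow_ne hx (by decide) (pow_of_isConj c h2)) (fun c => h.zx_four hx (pow_of_isConj c h2)) (h.nc hx hx)
    (five_cz hx (mem_cz.1 y.1.2).symm) (five_cz hx rfl) (five_cz hx (by rw [← mul_assoc, ← h.comm, mul_assoc]))
  exact absurd h3 (by decide)

theorem p2 [Finite E] (h : Uz z) (hp : Pat ({1, z} : Finset E) [4, 4, 4, 10, 10, 40]) : False := by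
  have h1 : ∀ x : E, orderOf x = 5 → cz x = 10 := fun x hx => by
    have h2 := hp.mem x (h.nm_x hx)
    have h3 := five_cz hx rfl
    have h4 : cz x ≠ 40 := fun e => absurd (h.two5 hp hx (fun c => c == 40) (by simpa using e)) (by decide)
    simp only [List.mem_cons, List.not_mem_nil, or_false, beq_iff_eq] at h2 h3
    omega
  obtain ⟨g, h2, h3⟩ := hp.ex 40 (by decide)
  have : Fact (Nat.Prime 5) := ⟨Nat.prime_five⟩
  obtain ⟨x, hx⟩ := exists_prime_orderOf_dvd_card' (G := centralizer ({g} : Set E)) 5 (by rw [cz] at h3; rw [h3]; decide)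
  rw [← Subgroup.orderOf_coe] at hx
  have h4 := pow_cz (mem_cz.1 x.2).symm
  rw [h1 _ hx] at h4
  have h5 : g * g ≠ 1 := fun e => (h.uniq g e).elim (not_mem.1 h2).1 (not_mem.1 h2).2
  have h6 := h1 (g * g) (order_five (by rw [← pow_two, ← pow_mul]; exact h4) h5)
  have h7 := cz_dvd_of (g := g) (h := g * g) fun y e => by rw [← mul_assoc, e, mul_assoc, e, mul_assoc]
  rw [h3, h6] at h7
  omega

theorem p5 [Finite E] (h : Uz z) (hp : Pat ({1, z} : Finset E) [4, 4, 4, 10, 10]) {x : E} (hx : orderOf x = 5) : False := by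
  have h1 : orderOf (x ^ 2) = 5 := order_five (by rw [← pow_mul, mul_comm, pow_mul, pow_five hx, one_pow])
    (pow_ne hx (by decide))
  have h2 : IsConj x (x ^ 2) := by
    by_contra hc
    have h3 := hp.three (fun c => c % 5 == 0) x (x ^ 2) (z * x) (h.nm_x hx) (h.nm_x h1) (h.nm_zx hx) hc
      (h.nc hx hx) (h.nc hx h1) (five_cz hx rfl) (five_cz h1 rfl) (five_cz hx (by rw [← mul_assoc, ← h.comm, mul_assoc]))
    exact absurd h3 (by decide)
  obtain ⟨g, hg⟩ := isConj_iff.1 h2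
  have h3 : ∀ j : ℕ, g ^ j ∈ center E → 5 ∣ 2 ^ j - 1 := fun j e => by
    have h4 := conj_iter hg j
    rw [← mem_center_iff.1 e x, mul_inv_cancel_right] at h4
    rw [← hx, orderOf_dvd_iff_pow_eq_one]
    have h5 : 2 ^ j = 2 ^ j - 1 + 1 := (Nat.sub_add_cancel Nat.one_le_two_pow).symm
    rw [h5, pow_succ] at h4
    exact (mul_eq_right.1 h4.symm)
  have h4 : g ∉ ({1, z} : Finset E) := not_mem.2
    ⟨fun e => absurd (h3 1 (by rw [e, pow_one]; exact one_mem _)) (by decide),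
      fun e => absurd (h3 1 (by rw [e, pow_one]; exact h.cen)) (by decide)⟩
  have h5 := hp.mem g h4
  have h6 := pow_cz (rfl : g * g = g * g)
  simp only [List.mem_cons, List.not_mem_nil, or_false] at h5
  have h7 : cz g = 4 ∨ cz g = 10 := by omega
  rcases h7 with h7 | h7 <;> rw [h7] at h6
  · refine absurd (h3 2 ?_) (by decide)
    rcases h.uniq (g ^ 2) (by rw [← pow_add]; exact h6) with e | e <;> rw [e]
    · exact one_mem _
    · exact h.cen
  · exact absurd (h3 10 (by rw [h6]; exact one_mem _)) (by decide)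

theorem k7 [Finite E] (h : Uz z) (h3 : ¬ 3 ∣ Nat.card E) (hk : Nat.card (ConjClasses E) = 7) {d : ℕ} (hd : 3 ≤ d) :
    2 * Nat.card E + 1 ≠ 3 ^ d := fun e => by
  obtain ⟨l, h1, h2, h4, h5, h6⟩ := h.pat h3
  have h7 := egy _ _ two_pos Nat.card_pos h1 (by omega) h6 h4 e7E
  simp only [dv_of h5.dvd, Bool.not_true, Bool.false_or, Bool.and_eq_true, decide_eq_true_eq] at h7
  rw [e, isP_of hd (by omega)] at h7
  simp only [Bool.not_true, Bool.false_or, Bool.and_eq_true, beq_iff_eq] at h7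
  obtain ⟨-, h8, rfl⟩ := h7
  have : Fact (Nat.Prime 5) := ⟨Nat.prime_five⟩
  obtain ⟨x, hx⟩ := exists_prime_orderOf_dvd_card' (G := E) 5 (by rw [h8]; decide)
  exact h.p5 h5 hx

theorem k8 [Finite E] (h : Uz z) (h3 : ¬ 3 ∣ Nat.card E) (hk : Nat.card (ConjClasses E) = 8) {d : ℕ} (hd : 3 ≤ d) :
    Nat.card E + 1 ≠ 3 ^ d := fun e => by
  obtain ⟨l, h1, h2, h4, h5, h6⟩ := h.pat h3
  have h7 := egy _ _ two_pos Nat.card_pos h1 (by omega) h6 h4 e8E
  simp only [dv_of h5.dvd, Bool.not_true, Bool.false_or, Bool.and_eq_true, decide_eq_true_eq] at h7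
  rw [e, isP_of hd (by omega)] at h7
  simp only [Bool.not_true, Bool.false_or, Bool.and_eq_true, Bool.or_eq_true, beq_iff_eq] at h7
  obtain ⟨-, h8, h9⟩ := h7
  have : Fact (Nat.Prime 5) := ⟨Nat.prime_five⟩
  obtain ⟨x, hx⟩ := exists_prime_orderOf_dvd_card' (G := E) 5 (by rw [h8]; decide)
  rcases h9 with ((rfl | rfl) | rfl) | rfl
  · exact h.p1 h5 hx
  · exact h.p2 h5
  · exact absurd (h.two5 h5 hx (fun c => c % 5 == 0) (five_cz hx rfl)) (by decide)
  · exact absurd (h.two5 h5 hx (fun c => c % 5 == 0) (five_cz hx rfl)) (by decide)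

end Uz

theorem k7_odd [Finite E] (h2 : ¬ 2 ∣ Nat.card E) (h3 : ¬ 3 ∣ Nat.card E) (hk : Nat.card (ConjClasses E) = 7) {d : ℕ}
    (hd : 3 ≤ d) : 2 * Nat.card E + 1 ≠ 3 ^ d := fun e => by
  obtain ⟨l, h1, h4, h5, h6⟩ := exists_pat ({1} : Finset E) one_center
  rw [Finset.card_singleton] at h4 h5
  have h7 := egy _ _ one_pos Nat.card_pos h1 (by omega) (fun c hc => ⟨by
    have h8 := h6.dvd c hc
    have h9 : ¬ 2 ∣ c := fun h => h2 (h.trans h8)
    have h10 : ¬ 3 ∣ c := fun h => h3 (h.trans h8)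
    simp only [ok5, Bool.and_eq_true, bne_iff_ne]
    omega, h6.dvd c hc⟩) h5 e7O
  simp only [dv_of h6.dvd, Bool.not_true, Bool.false_or, Bool.and_eq_true, decide_eq_true_eq] at h7
  rw [e, isP_of hd (by omega)] at h7
  simp at h7

theorem k7_two [Finite E] (h2 : 4 ∣ Nat.card E) (h3 : ¬ 3 ∣ Nat.card E) (hk : Nat.card (ConjClasses E) = 7) {d : ℕ}
    (hd : 3 ≤ d) (e : Nat.card E / 2 + 1 = 3 ^ d) :
    (Nat.card E = 160 ∧ ∀ g : E, g ≠ 1 → cz g ∈ [4, 5, 16, 32, 80]) ∨
      (Nat.card E = 52 ∧ ∀ g : E, g ≠ 1 → cz g ∈ [4, 13]) := by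
  obtain ⟨l, h1, h4, h5, h6⟩ := exists_pat ({1} : Finset E) one_center
  rw [Finset.card_singleton] at h4 h5
  have h7 := egy _ _ one_pos Nat.card_pos h1 (by omega) (fun c hc => ⟨by
    obtain ⟨g, hg, rfl⟩ := h6.ex c hc
    have h8 : g ≠ 1 := by simpa using hg
    have h9 := cz_ne_two h2 h8
    have h10 := not_three_cz (g := g) h3
    have h11 : cz g ≠ 1 := fun e => h8 (by simpa [e] using pow_cz (rfl : g * g = g * g))
    simp only [ok4, Bool.and_eq_true, bne_iff_ne, decide_eq_true_eq]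
    omega, h6.dvd c hc⟩) h5 e7T
  simp only [dv_of h6.dvd, Bool.not_true, Bool.false_or, Bool.and_eq_true, decide_eq_true_eq] at h7
  rw [e, isP_of hd (by omega)] at h7
  simp only [Bool.not_true, Bool.false_or, Bool.and_eq_true, Bool.or_eq_true, beq_iff_eq] at h7
  have h8 : ∀ g : E, g ≠ 1 → cz g ∈ l := fun g hg => h6.mem g (by simpa using hg)
  rcases h7.2 with (h9 | ⟨h9, rfl | rfl⟩) | ⟨h9, rfl⟩
  · omega
  · exact .inl ⟨h9, fun g hg => by have := h8 g hg; simp only [List.mem_cons, List.not_mem_nil, or_false] at this ⊢; omega⟩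
  · exact .inl ⟨h9, fun g hg => by have := h8 g hg; simp only [List.mem_cons, List.not_mem_nil, or_false] at this ⊢; omega⟩
  · exact .inr ⟨h9, fun g hg => by have := h8 g hg; simp only [List.mem_cons, List.not_mem_nil, or_false] at this ⊢; omega⟩

end Cfsg.Agent.KZ.Loc
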