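import Cfsg.Agent.KZ.Loc.Core
import Cfsg.Agent.KZ.Loc.Small
import Cfsg.Agent.H596.Degree
import Cfsg.Agent.H710.ClassCount

/-!
# KZ, box LOCAL (helper90)
-/

set_option autoImplicit false

namespace Cfsg.Agent.KZ.Loc

open Cfsg Subgroup MulAction

variable {G : Type} [Group G]

/-- the action of `E` on the normal subgroup `V` by conjugation -/
@[reducible] def cAct (V E : Subgroup G) [V.Normal] : MulDistribMulAction E V :=
  MulDistribMulAction.compHom V ((MulAut.conjNormal : G →* MulAut V).comp E.subtype)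

attribute [local instance] cAct

theorem coe_smul' {V E : Subgroup G} [V.Normal] (e : E) (v : V) : ((e • v : V) : G) = e * v * (e : G)⁻¹ := rfl

theorem smul_eq_iff {V E : Subgroup G} [V.Normal] (e : E) (v : V) : e • v = v ↔ (e : G) * v = v * e := by
  rw [Subtype.ext_iff, coe_smul', mul_inv_eq_iff_eq_mul]

/-- the stabiliser is the centralizer -/
def stEquiv {V E : Subgroup G} [V.Normal] (v : V) : stabilizer E v ≃* ↥(E ⊓ centralizer ({(v : G)} : Set G)) where
  toFun g := ⟨g.1.1, g.1.2, mem_cz.2 ((smul_eq_iff g.1 v).1 g.2)⟩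
  invFun g := ⟨⟨g.1, g.2.1⟩, (smul_eq_iff _ v).2 (mem_cz.1 g.2.2)⟩
  left_inv _ := rfl
  right_inv _ := rfl
  map_mul' _ _ := rfl

theorem k_eq [Finite G] {V E : Subgroup G} [V.Normal] (hab : ∀ a ∈ V, ∀ b ∈ V, a * b = b * a) (hc : IsComplement' V E)
    (hcop : (Nat.card V).Coprime (Nat.card E)) [Fintype (orbitRel.Quotient E V)] :
    Nat.card (ConjClasses G) = ∑ ω : orbitRel.Quotient E V, Nat.card (ConjClasses (stabilizer E ω.out)) := by
  classical
  have hinj : Function.Injective fun ω : orbitRel.Quotient E V => ((ω.out : V) : G) := fun a b e =>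
    Quotient.out_injective (Subtype.ext e)
  rw [H710.ClassCount.card_conjClasses V hab E hc hcop
    (Finset.univ.image fun ω : orbitRel.Quotient E V => ((ω.out : V) : G)) ?_ ?_, Finset.sum_image fun a _ b _ e => hinj e]
  · exact Finset.sum_congr rfl fun ω _ => (k_congr (stEquiv _)).symm
  · intro s hs
    obtain ⟨ω, -, rfl⟩ := Finset.mem_image.1 hs
    exact ω.out.2
  · intro v hv
    refine ⟨_, ⟨Finset.mem_image_of_mem _ (Finset.mem_univ (Quotient.mk'' ⟨v, hv⟩ : orbitRel.Quotient E V)), ?_⟩, ?_⟩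
    · obtain ⟨g, hg⟩ := orbitRel_apply.1 (Quotient.exact' (Quotient.out_eq' (Quotient.mk'' ⟨v, hv⟩ : orbitRel.Quotient E V)))
      exact ⟨g, g.2, congrArg Subtype.val hg⟩
    · rintro s ⟨hs, g, hg, e⟩
      obtain ⟨ω, -, rfl⟩ := Finset.mem_image.1 hs
      have : ω = Quotient.mk'' ⟨v, hv⟩ := by
        rw [← Quotient.out_eq' ω]
        exact Quotient.sound' (orbitRel_apply.2 ⟨⟨g, hg⟩, Subtype.ext e⟩)
      rw [this]

/-- **LOCAL** -/
theorem loc : Red.Local := by
  intro M hM G _ _ P hN hA h3 h27 hK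
  have : Fact (Nat.Prime 3) := ⟨Nat.prime_three⟩
  have hab : ∀ a ∈ (P : Subgroup G), ∀ b ∈ (P : Subgroup G), a * b = b * a := fun a ha b hb =>
    congrArg Subtype.val (hA.is_comm.comm ⟨a, ha⟩ ⟨b, hb⟩)
  obtain ⟨d, hd⟩ := P.isPGroup'.exists_card_eq
  obtain ⟨E, hE⟩ := exists_right_complement'_of_coprime P.card_coprime_index
  have hi : (P : Subgroup G).index = Nat.card E := hE.symm.index_eq_card
  have hE3 : ¬ 3 ∣ Nat.card E := hi ▸ P.not_dvd_index
  have hC : E ⊓ centralizer ((P : Subgroup G) : Set G) = ⊥ := by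
    refine hK _ ⟨fun x hx g => ?_⟩ fun e => hE3 (e.trans (card_dvd_of_le inf_le_left))
    obtain ⟨⟨v, e⟩, rfl⟩ := hE.2 g
    have h1 : (e : G) * x * (e : G)⁻¹ ∈ centralizer ((P : Subgroup G) : Set G) :=
      (inferInstance : (centralizer ((P : Subgroup G) : Set G)).Normal).conj_mem x hx.2 e
    have h2 : (v : G) * e * x * ((v : G) * e)⁻¹ = e * x * (e : G)⁻¹ := by
      calc (v : G) * e * x * ((v : G) * e)⁻¹ = v * (e * x * (e : G)⁻¹) * (v : G)⁻¹ := by group
        _ = _ := by rw [h1 v v.2, mul_inv_cancel_right]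
    change (v : G) * e * x * ((v : G) * e)⁻¹ ∈ _
    rw [h2]
    exact ⟨E.mul_mem (E.mul_mem e.2 hx.1) (E.inv_mem e.2), h1⟩
  have hF : ∀ e ∈ E, e ∈ centralizer ((P : Subgroup G) : Set G) → e = 1 := fun e h1 h2 =>
    mem_bot.1 (hC ▸ (⟨h1, h2⟩ : e ∈ E ⊓ centralizer ((P : Subgroup G) : Set G)))
  have hS : Sit E (P : Subgroup G) d :=
    { comm := fun a b => Subtype.ext (hab a a.2 b b.2)
      card := hd
      big := by
        by_contra h
        have := Nat.pow_le_pow_right (by norm_num : 0 < 3) (Nat.le_of_lt_succ (not_le.1 h))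
        omega
      three := hE3
      faith := fun e he => Subtype.ext (hF e e.2 fun v hv => ((smul_eq_iff e ⟨v, hv⟩).1 (he _)).symm) }
  have hk : k0 M G = Nat.card (ConjClasses G) := by
    rw [k0_eq, ← Characters.Core.card_irr]
    refine Nat.card_congr (Equiv.subtypeUnivEquiv fun χ => Tool.mem_of_cent hM P (fun x hx h1 => ?_) fun h1 =>
      P.not_dvd_index (h1.trans (H596.charDegree_dvd_index χ.2 _ hab)))
    obtain ⟨⟨v, e⟩, rfl⟩ := hE.2 x
    have h2 : (v : G) ∈ centralizer ((P : Subgroup G) : Set G) := fun w hw => hab w hw v v.2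
    have h4 : (e : G) = 1 := hF e e.2 ((mul_mem_cancel_left h2).1 hx)
    change ¬ 3 ∣ orderOf ((v : G) * e) at h1
    change (v : G) * e = 1
    rw [h4, mul_one] at h1 ⊢
    rcases (Nat.dvd_prime Nat.prime_three).1 (orderOf_dvd_of_pow_eq_one (h3 v v.2)) with h5 | h5
    · exact orderOf_eq_one_iff.1 h5
    · exact absurd (by rw [h5]) h1
  have h4 : 3 ∣ Nat.card G := by
    refine Dvd.dvd.trans ?_ (card_subgroup_dvd_card (P : Subgroup G))
    rw [hd]
    exact dvd_pow_self 3 (by have := hS.big; omega)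
  have h5 := Tool.three_dvd_k0 hM h4
  have := Fintype.ofFinite (orbitRel.Quotient E (P : Subgroup G))
  rw [hk, k_eq hab hE (hi ▸ P.card_coprime_index)] at h5 ⊢
  exact hS.core h5

end Cfsg.Agent.KZ.Loc
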