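import Cfsg.Agent.KZ.Loc.Egy
import Cfsg.Agent.Blocks.Central
import Cfsg.Agent.H474.TwoMod3

/-!
# KZ, box LOCAL: the list of the orders of the centralizers (helper90)
-/

set_option autoImplicit false

namespace Cfsg.Agent.KZ.Loc

open Subgroup

variable {E : Type*} [Group E]

/-- the order of the centralizer -/
noncomputable def cz (g : E) : ℕ := Nat.card (centralizer ({g} : Set E))

theorem mem_cz {g h : E} : h ∈ centralizer ({g} : Set E) ↔ h * g = g * h := mem_centralizer_singleton_iff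

theorem cz_dvd (g : E) : cz g ∣ Nat.card E := card_subgroup_dvd_card _

theorem cz_conj (g h : E) : cz (h * g * h⁻¹) = cz g := by
  refine Nat.card_congr
    { toFun := fun x => ⟨h⁻¹ * x * h, mem_cz.2 ?_⟩
      invFun := fun x => ⟨h * x * h⁻¹, mem_cz.2 ?_⟩
      left_inv := fun x => Subtype.ext (by simp [mul_assoc])
      right_inv := fun x => Subtype.ext (by simp [mul_assoc]) }
  · have := mem_cz.1 x.2
    calc h⁻¹ * x * h * g = h⁻¹ * (x * (h * g * h⁻¹)) * h := by group
      _ = h⁻¹ * (h * g * h⁻¹ * x) * h := by rw [this]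
      _ = _ := by group
  · have := mem_cz.1 x.2
    calc h * x * h⁻¹ * (h * g * h⁻¹) = h * (x * g) * h⁻¹ := by group
      _ = h * (g * x) * h⁻¹ := by rw [this]
      _ = _ := by group

theorem cz_isConj {g h : E} (c : IsConj g h) : cz g = cz h := by
  obtain ⟨x, rfl⟩ := isConj_iff.1 c
  exact (cz_conj g x).symm

theorem cz_out (g : E) : cz (ConjClasses.mk g).out = cz g :=
  cz_isConj (ConjClasses.mk_eq_mk_iff_isConj.1 (Quotient.out_eq (ConjClasses.mk g)))

theorem orderOf_dvd_cz {g h : E} (c : h * g = g * h) : orderOf h ∣ cz g := by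
  have := orderOf_dvd_natCard (⟨h, mem_cz.2 c⟩ : centralizer ({g} : Set E))
  rwa [Subgroup.orderOf_mk] at this

theorem pow_cz {g h : E} (c : h * g = g * h) : h ^ cz g = 1 := orderOf_dvd_iff_pow_eq_one.1 (orderOf_dvd_cz c)

theorem cz_dvd_of {g h : E} (c : ∀ x : E, x * g = g * x → x * h = h * x) : cz g ∣ cz h :=
  card_dvd_of_le fun x hx => mem_cz.2 (c x (mem_cz.1 hx))

theorem cz_central {z : E} (c : z ∈ center E) : cz z = Nat.card E := by
  have : centralizer ({z} : Set E) = ⊤ := eq_top_iff.2 fun x _ => mem_cz.2 (mem_center_iff.1 c x)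
  rw [cz, this, card_top]

theorem cz_mul {z : E} (c : z ∈ center E) (g : E) : cz (z * g) = cz g := by
  have : centralizer ({z * g} : Set E) = centralizer ({g} : Set E) := by
    ext x
    rw [mem_cz, mem_cz, ← mul_assoc, mem_center_iff.1 c x, mul_assoc, mul_assoc, mul_right_inj]
  rw [cz, this, cz]

theorem pow_of_isConj {g h : E} (c : IsConj g h) {j : ℕ} (e : g ^ j = 1) : h ^ j = 1 := by
  have := c.pow j
  rw [e] at this
  exact isConj_one_right.1 this

/-- what the sorted list `l` of the orders of the centralizers of the classes outside `Z` says -/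
structure Pat (Z : Finset E) (l : List ℕ) : Prop where
  mem : ∀ g, g ∉ Z → cz g ∈ l
  ex : ∀ j ∈ l, ∃ g, g ∉ Z ∧ cz g = j
  two : ∀ (p : ℕ → Bool) (x y : E), x ∉ Z → y ∉ Z → ¬ IsConj x y → p (cz x) = true → p (cz y) = true → 2 ≤ l.countP p
  three : ∀ (p : ℕ → Bool) (x y w : E), x ∉ Z → y ∉ Z → w ∉ Z → ¬ IsConj x y → ¬ IsConj x w → ¬ IsConj y w →
    p (cz x) = true → p (cz y) = true → p (cz w) = true → 3 ≤ l.countP p

theorem class_eq [Fintype (ConjClasses E)] [Finite E] : ∑ K : ConjClasses E, Nat.card E / cz K.out = Nat.card E := by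
  have := Fintype.ofFinite E
  have h := Blocks.Central.sum_eq_sum_conjClasses (G := E) (k := ℤ) (fun _ => 1) fun _ _ => rfl
  simp only [Finset.sum_const, Finset.card_univ, nsmul_eq_mul, mul_one] at h
  rw [← Nat.card_eq_fintype_card] at h
  have h1 : ∀ K : ConjClasses E, Nat.card E / cz K.out = (centralizer ({K.out} : Set E)).index := fun K => by
    rw [← (centralizer ({K.out} : Set E)).card_mul_index, cz, Nat.mul_div_cancel_left _ Nat.card_pos]
  simp only [h1]
  exact_mod_cast h.symm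

theorem exists_pat [Finite E] (Z : Finset E) (hZ : ∀ z ∈ Z, z ∈ center E) :
    ∃ l : List ℕ, l.Pairwise (· ≤ ·) ∧ l.length + Z.card = Nat.card (ConjClasses E) ∧
      (l.map (Nat.card E / ·)).sum + Z.card = Nat.card E ∧ Pat Z l := by
  classical
  have := Fintype.ofFinite (ConjClasses E)
  have hmem : ∀ g : E, ConjClasses.mk g ∈ Z.image ConjClasses.mk ↔ g ∈ Z := fun g => by
    rw [Finset.mem_image]
    refine ⟨fun ⟨z, h1, h2⟩ => ?_, fun h => ⟨g, h, rfl⟩⟩
    obtain ⟨x, rfl⟩ := isConj_iff.1 (ConjClasses.mk_eq_mk_iff_isConj.1 h2)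
    rwa [mem_center_iff.1 (hZ z h1) x, mul_inv_cancel_right]
  have hcard : (Z.image ConjClasses.mk).card = Z.card := Finset.card_image_of_injOn fun a ha b _ hab => by
    obtain ⟨x, rfl⟩ := isConj_iff.1 (ConjClasses.mk_eq_mk_iff_isConj.1 hab)
    rw [mem_center_iff.1 (hZ a ha) x, mul_inv_cancel_right]
  set T := Z.image ConjClasses.mk with hT
  set A : Finset (ConjClasses E) := Finset.univ \ T with hA
  have hAm : ∀ g : E, ConjClasses.mk g ∈ A ↔ g ∉ Z := fun g => by simp [hA, hmem]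
  let f : ConjClasses E → ℕ := fun K => cz K.out
  have hcount : ∀ p : ℕ → Bool, ((A.val.map f).sort (· ≤ ·)).countP p = (A.filter fun K => p (f K) = true).card := fun p => by
    have h1 := Multiset.coe_countP (fun c => p c = true) ((A.val.map f).sort (· ≤ ·))
    rw [Multiset.sort_eq, Multiset.countP_map] at h1
    simp only [Bool.decide_eq_true] at h1
    rw [← h1]
    rfl
  refine ⟨(A.val.map f).sort (· ≤ ·), Multiset.pairwise_sort _ _, ?_, ?_, ?_, ?_, ?_, ?_⟩
  · rw [Multiset.length_sort, Multiset.card_map, Finset.card_val, hA, ← hcard,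
      Finset.card_sdiff_add_card_eq_card (Finset.subset_univ _), Finset.card_univ, Nat.card_eq_fintype_card]
  · have h1 : (((A.val.map f).sort (· ≤ ·)).map (Nat.card E / ·)).sum = ∑ K ∈ A, Nat.card E / f K := by
      rw [← Multiset.sum_coe, ← Multiset.map_coe, Multiset.sort_eq, Multiset.map_map]
      rfl
    have h2 : ∑ K ∈ T, Nat.card E / f K = Z.card := by
      rw [← hcard, Finset.card_eq_sum_ones]
      refine Finset.sum_congr rfl fun K hK => ?_
      obtain ⟨z, hz, rfl⟩ := Finset.mem_image.1 hK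
      simp only [f]
      rw [cz_out, cz_central (hZ z hz), Nat.div_self Nat.card_pos]
    rw [h1, ← h2, hA, Finset.sum_sdiff (Finset.subset_univ _)]
    exact class_eq
  · intro g hg
    rw [Multiset.mem_sort, Multiset.mem_map]
    exact ⟨_, (hAm g).2 hg, cz_out g⟩
  · intro j hj
    rw [Multiset.mem_sort, Multiset.mem_map] at hj
    obtain ⟨K, h1, rfl⟩ := hj
    obtain ⟨g, rfl⟩ := ConjClasses.mk_surjective K
    exact ⟨g, (hAm g).1 h1, (cz_out g).symm⟩
  · intro p x y hx hy hxy px py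
    rw [hcount]
    refine Finset.one_lt_card.2 ⟨ConjClasses.mk x, ?_, ConjClasses.mk y, ?_, fun h => hxy (ConjClasses.mk_eq_mk_iff_isConj.1 h)⟩
    · exact Finset.mem_filter.2 ⟨(hAm x).2 hx, by simp only [f]; rwa [cz_out]⟩
    · exact Finset.mem_filter.2 ⟨(hAm y).2 hy, by simp only [f]; rwa [cz_out]⟩
  · intro p x y w hx hy hw hxy hxw hyw px py pw
    rw [hcount]
    refine Finset.two_lt_card_iff.2 ⟨ConjClasses.mk x, ConjClasses.mk y, ConjClasses.mk w, ?_, ?_, ?_,
      fun h => hxy (ConjClasses.mk_eq_mk_iff_isConj.1 h), fun h => hxw (ConjClasses.mk_eq_mk_iff_isConj.1 h),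
      fun h => hyw (ConjClasses.mk_eq_mk_iff_isConj.1 h)⟩
    · exact Finset.mem_filter.2 ⟨(hAm x).2 hx, by simp only [f]; rwa [cz_out]⟩
    · exact Finset.mem_filter.2 ⟨(hAm y).2 hy, by simp only [f]; rwa [cz_out]⟩
    · exact Finset.mem_filter.2 ⟨(hAm w).2 hw, by simp only [f]; rwa [cz_out]⟩

/-- an element of order `p` in the centre of a Sylow subgroup -/
theorem exists_cen [Finite E] {p : ℕ} [hp : Fact p.Prime] (S : Sylow p E) (h : p ∣ Nat.card E) :
    ∃ z ∈ (S : Subgroup E), orderOf z = p ∧ (S : Subgroup E) ≤ centralizer ({z} : Set E) := by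
  have h1 : Nontrivial (S : Subgroup E) := (Subgroup.nontrivial_iff_ne_bot _).2 (S.ne_bot_of_dvd_card h)
  have h2 := S.isPGroup'.center_nontrivial
  have h3 : IsPGroup p (center (S : Subgroup E)) := S.isPGroup'.to_subgroup _
  obtain ⟨j, h4, h5⟩ := h3.nontrivial_iff_card.1 h2
  obtain ⟨z, hz⟩ := exists_prime_orderOf_dvd_card' (G := center (S : Subgroup E)) p (h5 ▸ dvd_pow_self p h4.ne')
  refine ⟨z.1.1, z.1.2, by rw [Subgroup.orderOf_coe, Subgroup.orderOf_coe, hz], fun x hx => mem_cz.2 ?_⟩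
  exact congrArg Subtype.val (mem_center_iff.1 z.2 ⟨x, hx⟩)

theorem pow_dvd_sylow [Finite E] {p : ℕ} [hp : Fact p.Prime] (S : Sylow p E) {j : ℕ} (h : p ^ j ∣ Nat.card E) :
    p ^ j ∣ Nat.card (S : Subgroup E) := by
  rw [S.card_eq_multiplicity]
  exact pow_dvd_pow _ ((hp.out.pow_dvd_iff_le_factorization Nat.card_pos.ne').1 h)

theorem three_le_card {H : Type*} [Finite H] {a b c : H} (h1 : a ≠ b) (h2 : a ≠ c) (h3 : b ≠ c) : 3 ≤ Nat.card H := by
  classical
  have := Fintype.ofFinite H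
  rw [Nat.card_eq_fintype_card]
  exact Finset.two_lt_card_iff.2 ⟨a, b, c, Finset.mem_univ _, Finset.mem_univ _, Finset.mem_univ _, h1, h2, h3⟩

/-- a self-centralizing involution generates a Sylow subgroup -/
theorem cz_ne_two [Finite E] (h : 4 ∣ Nat.card E) {g : E} (hg : g ≠ 1) : cz g ≠ 2 := by
  intro h2
  have : Fact (Nat.Prime 2) := ⟨Nat.prime_two⟩
  have h3 : g ^ 2 = 1 := h2 ▸ pow_cz rfl
  have h4 : IsPGroup 2 (zpowers g) := IsPGroup.of_card (n := 1) (by
    rw [Nat.card_zpowers, orderOf_eq_prime h3 hg]; rfl)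
  obtain ⟨S, hS⟩ := h4.exists_le_sylow
  obtain ⟨z, -, h6, h7⟩ := exists_cen S (Dvd.dvd.trans (by norm_num) h)
  have h8 : z ≠ 1 := fun e => by rw [e, orderOf_one] at h6; omega
  have h9 : z * g = g * z := (mem_cz.1 (h7 (hS (mem_zpowers g)))).symm
  have h10 : z = g := by
    by_contra h11
    have := three_le_card (H := centralizer ({g} : Set E)) (a := 1) (b := ⟨g, mem_cz.2 rfl⟩) (c := ⟨z, mem_cz.2 h9⟩)
      (fun e => hg (congrArg Subtype.val e).symm) (fun e => h8 (congrArg Subtype.val e).symm)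
      (fun e => h11 (congrArg Subtype.val e).symm)
    rw [cz] at h2
    omega
  rw [h10] at h7
  have h11 := (pow_dvd_sylow S (j := 2) h).trans (card_dvd_of_le h7)
  rw [cz] at h2
  rw [h2] at h11
  omega

theorem not_three_cz {g : E} (h3 : ¬ 3 ∣ Nat.card E) : cz g % 3 ≠ 0 := fun h =>
  h3 ((Nat.dvd_of_mod_eq_zero h).trans (cz_dvd g))

theorem one_center : ∀ z ∈ ({1} : Finset E), z ∈ center E := fun z hz => by
  rw [Finset.mem_singleton.1 hz]; exact one_mem _

theorem Pat.dvd {Z : Finset E} {l : List ℕ} (h : Pat Z l) : ∀ c ∈ l, c ∣ Nat.card E := fun c hc => by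
  obtain ⟨g, -, rfl⟩ := h.ex c hc
  exact cz_dvd g

theorem Pat.ok3 {Z : Finset E} {l : List ℕ} (h : Pat Z l) (h3 : ¬ 3 ∣ Nat.card E) :
    ∀ c ∈ l, ok3 c = true ∧ c ∣ Nat.card E := fun c hc => by
  obtain ⟨g, -, rfl⟩ := h.ex c hc
  exact ⟨by simpa [Loc.ok3] using not_three_cz h3, cz_dvd g⟩

theorem k_three [Finite E] (h3 : ¬ 3 ∣ Nat.card E) : ¬ 3 ∣ Nat.card (ConjClasses E) := fun h => by
  have h1 := H474.TwoMod3.card_conjClasses_mul_card_modEq (G := E) fun x hx => by
    have h2 := orderOf_dvd_of_pow_eq_one hx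
    rcases (Nat.dvd_prime Nat.prime_three).1 h2 with h4 | h4
    · exact orderOf_eq_one_iff.1 h4
    · exact absurd (h4 ▸ orderOf_dvd_natCard x) h3
  have h2 := (h1.dvd_iff dvd_rfl).1 (h.mul_right _)
  omega

theorem k_one [Finite E] (h : Nat.card (ConjClasses E) = 1) : Nat.card E = 1 := by
  obtain ⟨l, -, h2, h4, -⟩ := exists_pat ({1} : Finset E) one_center
  rw [Finset.card_singleton] at h2 h4
  obtain rfl : l = [] := List.length_eq_zero_iff.1 (by omega)
  simpa using h4.symm

theorem k_two [Finite E] (h3 : ¬ 3 ∣ Nat.card E) (h : Nat.card (ConjClasses E) = 2) : Nat.card E = 2 := by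
  obtain ⟨l, h1, h2, h4, h5⟩ := exists_pat ({1} : Finset E) one_center
  rw [Finset.card_singleton] at h2 h4
  simpa using egy _ _ one_pos Nat.card_pos h1 (by omega) (h5.ok3 h3) h4 e2

theorem k_four [Finite E] (h3 : ¬ 3 ∣ Nat.card E) (h : Nat.card (ConjClasses E) = 4) : Nat.card E = 4 ∨ Nat.card E = 10 := by
  obtain ⟨l, h1, h2, h4, h5⟩ := exists_pat ({1} : Finset E) one_center
  rw [Finset.card_singleton] at h2 h4
  have h6 := egy _ _ one_pos Nat.card_pos h1 (by omega) (h5.ok3 h3) h4 e4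
  simp only [dv_of h5.dvd, Bool.not_true, Bool.false_or, Bool.or_eq_true, beq_iff_eq, Bool.and_eq_true,
    decide_eq_true_eq] at h6
  rcases h6 with ((h6 | h6) | h6) | ⟨h6, h7⟩
  · omega
  · exact .inl h6
  · exact .inr h6
  · obtain ⟨g, h8, h9⟩ := h5.ex 2 h6
    exact absurd h9 (cz_ne_two (Nat.dvd_of_mod_eq_zero h7) (by simpa using h8))

theorem k_five [Finite E] (h3 : ¬ 3 ∣ Nat.card E) (h : Nat.card (ConjClasses E) = 5) :
    Nat.card E ∈ [220, 100, 40, 140, 28, 16, 20, 110, 70, 10, 14, 8, 5] := by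
  obtain ⟨l, h1, h2, h4, h5⟩ := exists_pat ({1} : Finset E) one_center
  rw [Finset.card_singleton] at h2 h4
  have h6 := egy _ _ one_pos Nat.card_pos h1 (by omega) (h5.ok3 h3) h4 e5
  simp only [dv_of h5.dvd, Bool.not_true, Bool.false_or, Bool.or_eq_true, beq_iff_eq, decide_eq_true_eq] at h6
  exact h6.resolve_left (by omega)

theorem k_le [Finite E] : Nat.card (ConjClasses E) ≤ Nat.card E :=
  Nat.card_le_card_of_surjective _ ConjClasses.mk_surjective

theorem k_pos [Finite E] : 0 < Nat.card (ConjClasses E) := Nat.card_pos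

end Cfsg.Agent.KZ.Loc
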